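import Groth.Agent.ProjKLib.K
import Groth.Agent.RegConLib.DetSeq
import Groth.Agent.LMLib.Duality
import Groth.Agent.CycBivLib.Avoid
import Groth.Agent.GenusZeroLib.Zeros
import Groth.Agent.GrowthLib.BaseLocus
import Groth.Agent.CurveVBLib.Line
import Groth.Agent.GrassLib.SchExtPow
import Groth.Agent.HodgePnLib.Seq
import Groth.Agent.ExtPowLib.Pullback
import Groth.Agent.AmpleAffLib.Gen
import Groth.Agent.CohCmpLib.HomLift
import Groth.Agent.AmpleNilLib.Basic
import Groth.Agent.CurveAmpLib.Main

/-!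
# `K₀` of bundles on a curve is rank plus determinant
-/

set_option autoImplicit false
set_option linter.style.haveILetI false
set_option linter.unusedSectionVars false
set_option backward.isDefEq.respectTransparency false
set_option backward.isDefEq.respectTransparency.types false
set_option maxHeartbeats 1000000

universe u

open CategoryTheory CategoryTheory.Limits AlgebraicGeometry TopologicalSpace
open Groth.Agent.KHeartLib (clSub_add clSub_congr clSub_eq_zero clSub_closure_eq_top exists_lift_sub)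
open CubeConsLib (cl IsoCls cl_eq_iff cl_tensor cl_eq_one_iff)
open TwistLib (genSet)

noncomputable section

namespace KCurveLib

open Groth.Agent

variable {X : Scheme.{u}}

theorem vb_iso : (KRR.vbP X).IsClosedUnderIsomorphisms :=
  ⟨fun e h => Groth.Agent.PerfLib.isFinLocFree_of_iso e h⟩

theorem rank_line {L : X.Modules} (hL : PicF.IsInvertible L) : FlatMod.IsFinLocFreeOfRank 1 L :=
  (CohCmpLib.invertible_iff_rank_one L).1 hL

theorem inv_line {L : X.Modules} (hL : FlatMod.IsFinLocFreeOfRank 1 L) : PicF.IsInvertible L :=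
  (CohCmpLib.invertible_iff_rank_one L).2 hL

theorem inv_tens {A B : X.Modules} (hA : PicF.IsInvertible A) (hB : PicF.IsInvertible B) :
    PicF.IsInvertible (CohB1.tensorMod A B) := MiscFlat6.tensorMod_isInvertible hA hB

theorem cancel {L : X.Modules} (hL : PicF.IsInvertible L) {a b : IsoCls X} (h : cl L * a = cl L * b) : a = b := by
  obtain ⟨d, hd⟩ := CubeConsLib.exists_inverse hL
  have := congrArg (d * ·) h
  simpa only [← mul_assoc, mul_comm d (cl L), hd, one_mul] using this

/-- The class of a bundle. -/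
abbrev kc (E : X.Modules) : SGA6.Kvb X := KRR.cl X E

theorem kc_congr {E F : X.Modules} (e : E ≅ F) : kc E = kc F := by
  haveI := vb_iso (X := X)
  exact clSub_congr (KRR.vbP X) e

theorem kc_cls {E F : X.Modules} (e : cl E = cl F) : kc E = kc F := kc_congr (cl_eq_iff.1 e).some

variable [IsIntegral X]

theorem rank_unique {E : X.Modules} {a b : ℕ} (ha : FlatMod.IsFinLocFreeOfRank a E)
    (hb : FlatMod.IsFinLocFreeOfRank b E) : a = b := by
  rw [← CurveVBLib.genRank_eq ha, ← CurveVBLib.genRank_eq hb]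

theorem kc_seq {S : ShortComplex X.Modules} (hS : S.ShortExact) (h₁ : FlatMod.IsFinLocFree S.X₁)
    (h₂ : FlatMod.IsFinLocFree S.X₂) (h₃ : FlatMod.IsFinLocFree S.X₃) : kc S.X₂ = kc S.X₁ + kc S.X₃ := by
  haveI := vb_iso (X := X)
  exact clSub_add (KRR.vbP X) S hS h₁ h₂ h₃

/-- The sum relation of two sections without common zeros. -/
theorem pair_relation {A B : X.Modules} (hA : PicF.IsInvertible A) (hB : PicF.IsInvertible B)
    (s : Coh.structureModule X ⟶ A) (t : Coh.structureModule X ⟶ B)
    (hst : ∀ x, x ∈ CohB1.genLocus A s ∨ x ∈ CohB1.genLocus B t) {L : X.Modules} (hL : PicF.IsInvertible L) :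
    kc (CohB1.tensorMod L A) + kc (CohB1.tensorMod L B) = kc L + kc (CohB1.tensorMod L (CohB1.tensorMod A B)) := by
  let M := CohB1.tensorMod L A
  let N := CohB1.tensorMod L B
  have hM : PicF.IsInvertible M := inv_tens hL hA
  have hN : PicF.IsInvertible N := inv_tens hL hB
  let T := CohB1.tensorMod B M
  have hT : PicF.IsInvertible T := inv_tens hB hM
  obtain ⟨e⟩ : Nonempty (CohB1.tensorMod A N ≅ T) := cl_eq_iff.1 (by
    simp only [T, M, N, cl_tensor]; simp only [mul_comm, mul_left_comm])
  let p₁ : M ⟶ T := (GrowthLib.mulNat t).app M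
  let p₂ : N ⟶ T := (GrowthLib.mulNat s).app N ≫ e.hom
  let q : M ⊞ N ⟶ T := biprod.desc p₁ p₂
  haveI : Epi q := CohCmpLib.epi_of_stalk_surjective fun x => by
    rcases hst x with hx | hx
    · haveI : IsIso ((DerSch.stalkFunctor X x).map p₂) := by
        haveI h1 : IsIso ((DerSch.stalkFunctor X x).map ((GrowthLib.mulNat s).app N)) :=
          GrowthLib.isIso_St_mulNat s hx N
        rw [show p₂ = (GrowthLib.mulNat s).app N ≫ e.hom from rfl, Functor.map_comp]
        infer_instance
      intro z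
      obtain ⟨w, hw⟩ := ((ConcreteCategory.isIso_iff_bijective ((DerSch.stalkFunctor X x).map p₂)).1 inferInstance).2 z
      refine ⟨(DerSch.stalkFunctor X x).map (biprod.inr : N ⟶ M ⊞ N) w, ?_⟩
      refine (ConcreteCategory.comp_apply _ _ w).symm.trans ?_
      rw [← Functor.map_comp, biprod.inr_desc]
      exact hw
    · haveI : IsIso ((DerSch.stalkFunctor X x).map p₁) := GrowthLib.isIso_St_mulNat t hx M
      intro z
      obtain ⟨w, hw⟩ := ((ConcreteCategory.isIso_iff_bijective ((DerSch.stalkFunctor X x).map p₁)).1 inferInstance).2 z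
      refine ⟨(DerSch.stalkFunctor X x).map (biprod.inl : M ⟶ M ⊞ N) w, ?_⟩
      refine (ConcreteCategory.comp_apply _ _ w).symm.trans ?_
      rw [← Functor.map_comp, biprod.inl_desc]
      exact hw
  let S₀ : ShortComplex X.Modules := ShortComplex.mk (biprod.inl : M ⟶ M ⊞ N) biprod.snd biprod.inl_snd
  have hS₀ : S₀.ShortExact := (ShortComplex.Splitting.ofHasBinaryBiproduct M N).shortExact
  let S₁ : ShortComplex X.Modules := ShortComplex.mk (kernel.ι q) q (kernel.condition q)
  have hS₁ : S₁.ShortExact := { exact := ShortComplex.exact_kernel q }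
  have hMN : FlatMod.IsFinLocFreeOfRank 2 (M ⊞ N) :=
    RegConLib.rank_mid S₀ hS₀ (a := 1) (c := 1) (rank_line hM) (rank_line hN)
  have hMNv := VBResLib.vb_of_rank hMN
  have hTv := VBResLib.vb_of_rank (rank_line hT)
  have hKv : FlatMod.IsFinLocFree (kernel q) := AmpleNilLib.vb_kernel hMNv hTv q
  obtain ⟨a, ha⟩ := VBResLib.exists_rank hKv
  have ha1 : a = 1 := by
    have := rank_unique (RegConLib.rank_mid S₁ hS₁ (a := a) (c := 1) ha (rank_line hT)) hMN
    omega
  subst ha1
  obtain ⟨D, -, hD⟩ := ExtPowLib.exists_isExtPow_vb hMNv 2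
  obtain ⟨e₀⟩ := RegConLib.nonempty_det_ses S₀ hS₀ (a := 1) (c := 1) (rank_line hM) (rank_line hN)
    (LMLib.isExtPow_one M) hD (LMLib.isExtPow_one N)
  obtain ⟨e₁⟩ := RegConLib.nonempty_det_ses S₁ hS₁ (a := 1) (c := 1) ha (rank_line hT)
    (LMLib.isExtPow_one _) hD (LMLib.isExtPow_one T)
  have hcl : cl (kernel q) = cl L := by
    refine cancel hT ?_
    have h := cl_eq_iff.2 ⟨e₁.symm ≪≫ e₀⟩
    simp only [cl_tensor, T, M, N] at h ⊢
    rw [h]
    simp only [mul_comm, mul_left_comm]
  have h₀ := kc_seq hS₀ (VBResLib.vb_of_rank (rank_line hM)) hMNv (VBResLib.vb_of_rank (rank_line hN))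
  have h₁ := kc_seq hS₁ hKv hMNv hTv
  have hT' : kc T = kc (CohB1.tensorMod L (CohB1.tensorMod A B)) := kc_cls (by
    simp only [T, M, cl_tensor]; simp only [mul_comm, mul_left_comm])
  rw [kc_cls hcl, hT'] at h₁
  exact h₀.symm.trans h₁

variable {k : Type u} [Field k] [X.Over (Spec (CommRingCat.of k))]
  [IsProper (X ↘ Spec (CommRingCat.of k))] [Smooth (X ↘ Spec (CommRingCat.of k))]
  (hdim : topologicalKrullDim X = 1)

include k hdim in
/-- The difference of classes is shift invariant. -/
theorem shift {A : X.Modules} (hA : PicF.IsInvertible A) {σ : Γ(A, ⊤)} (hσ : σ ≠ 0) {B : X.Modules}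
    (hB : CycBivLib.Avoids ((genSet hA σ : Set X)ᶜ) B) {L : X.Modules} (hL : PicF.IsInvertible L) :
    kc (CohB1.tensorMod (CohB1.tensorMod L B) A) - kc (CohB1.tensorMod L B) = kc (CohB1.tensorMod L A) - kc L := by
  obtain ⟨hBi, τ, hτ⟩ := hB
  have h := pair_relation hA hBi (QCohLib.unitHom A σ) (QCohLib.unitHom B τ) (fun x => by
    rw [AmpleThLib.genLocus_unitHom hA, AmpleThLib.genLocus_unitHom hBi]
    by_cases hx : x ∈ genSet hA σ
    · exact Or.inl hx
    · exact Or.inr (hτ hx)) hL
  rw [kc_cls (E := CohB1.tensorMod (CohB1.tensorMod L B) A) (F := CohB1.tensorMod L (CohB1.tensorMod A B))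
    (by simp only [cl_tensor]; simp only [mul_comm, mul_left_comm])]
  linear_combination (norm := abel) -h

include k hdim in
/-- Additivity along modules with a section. -/
theorem add_effective {H : X.Modules} (hH : CohB1.IsAmple H) {A : X.Modules} (hA : PicF.IsInvertible A)
    {σ : Γ(A, ⊤)} (hσ : σ ≠ 0) {L : X.Modules} (hL : PicF.IsInvertible L) :
    kc (CohB1.tensorMod L A) + kc (Coh.structureModule X) = kc L + kc A := by
  obtain ⟨hfin, hcl⟩ := GenusZeroLib.finite_compl_genSet k hdim hA hσ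
  obtain ⟨B, A', hB, hA', hBLA⟩ := CycBivLib.exists_avoids hH hL hfin fun z hz z' hz' h => by
    have h' : z ∈ closure ({z'} : Set X) := specializes_iff_mem_closure.mp h
    rw [(hcl z' hz').closure_eq] at h'
    exact (Set.mem_singleton_iff.mp h').symm
  have hO : PicF.IsInvertible (Coh.structureModule X) := CurvLib.isInvertible_structureModule
  have h1 := shift (k := k) hdim hA hσ hBLA hO
  have h2 := shift (k := k) hdim hA hσ hA' (inv_tens hL hB.1)
  have h3 := shift (k := k) hdim hA hσ hB hL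
  have u : cl (Coh.structureModule X) = 1 := cl_eq_one_iff.2 ⟨Iso.refl _⟩
  have hO' : ∀ M : X.Modules, kc (CohB1.tensorMod (Coh.structureModule X) M) = kc M := fun M =>
    kc_cls (by rw [cl_tensor, u, one_mul])
  simp only [hO'] at h1
  rw [kc_cls (E := CohB1.tensorMod (CohB1.tensorMod (Coh.structureModule X) (CohB1.tensorMod (CohB1.tensorMod B L) A')) A)
      (F := CohB1.tensorMod (CohB1.tensorMod (CohB1.tensorMod L B) A') A)
      (by simp only [cl_tensor, u, one_mul]; simp only [mul_comm, mul_left_comm]),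
    kc_cls (E := CohB1.tensorMod (CohB1.tensorMod B L) A') (F := CohB1.tensorMod (CohB1.tensorMod L B) A')
      (by simp only [cl_tensor]; simp only [mul_comm, mul_left_comm])] at h1
  linear_combination (norm := abel) h1 - h2 - h3

include k hdim in
/-- The classes of line bundles are additive up to the unit. -/
theorem add_line {H : X.Modules} (hH : CohB1.IsAmple H) {L M : X.Modules} (hL : PicF.IsInvertible L)
    (hM : PicF.IsInvertible M) :
    kc (CohB1.tensorMod L M) + kc (Coh.structureModule X) = kc L + kc M := by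
  obtain ⟨B, A', ⟨hBi, β, hβ⟩, ⟨hAi, α, hα⟩, ⟨hCi, γ, hγ⟩⟩ := CycBivLib.exists_avoids hH hM
    (Set.finite_singleton (genericPoint X)) fun z hz z' hz' _ => by rw [Set.mem_singleton_iff.1 hz, Set.mem_singleton_iff.1 hz']
  have ne : ∀ {C : X.Modules} (hC : PicF.IsInvertible C) {s : Γ(C, ⊤)},
      {genericPoint X} ⊆ (genSet hC s : Set X) → s ≠ 0 := fun hC s hs h0 => by
    have := hs rfl
    rw [h0, MiscFlat6.genSet_eq_bot_of_zero] at this
    exact this.elim
  have hLM := inv_tens hL hM
  have hX1 := add_effective (k := k) hdim hH hBi (ne hBi hβ) hLM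
  have hX2 := add_effective (k := k) hdim hH hAi (ne hAi hα) (inv_tens hLM hBi)
  have hX3 := add_effective (k := k) hdim hH hCi (ne hCi hγ) hL
  have hY1 := add_effective (k := k) hdim hH hBi (ne hBi hβ) hM
  have hY2 := add_effective (k := k) hdim hH hAi (ne hAi hα) (inv_tens hM hBi)
  rw [kc_cls (E := CohB1.tensorMod L (CohB1.tensorMod (CohB1.tensorMod B M) A'))
    (F := CohB1.tensorMod (CohB1.tensorMod (CohB1.tensorMod L M) B) A')
    (by simp only [cl_tensor]; simp only [mul_comm, mul_left_comm]),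
    kc_cls (E := CohB1.tensorMod (CohB1.tensorMod B M) A') (F := CohB1.tensorMod (CohB1.tensorMod M B) A')
    (by simp only [cl_tensor]; simp only [mul_comm, mul_left_comm])] at hX3
  linear_combination (norm := abel) hX3 - hX2 - hX1 + hY1 + hY2

/-- The determinant. -/
def detM (E : X.Modules) : IsoCls X :=
  haveI := Classical.dec (FlatMod.IsFinLocFree E)
  if h : FlatMod.IsFinLocFree E then cl (ExtPowLib.exists_isExtPow_vb h (CurvLib.genRank E)).choose else 1

theorem detM_eq {E D : X.Modules} {r : ℕ} (hE : FlatMod.IsFinLocFreeOfRank r E) (hD : ExtPow.IsExtPow r E D) :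
    detM E = cl D := by
  have h := VBResLib.vb_of_rank hE
  rw [detM, dif_pos h]
  have h' := (ExtPowLib.exists_isExtPow_vb h (CurvLib.genRank E)).choose_spec.2
  generalize (ExtPowLib.exists_isExtPow_vb h (CurvLib.genRank E)).choose = D' at h' ⊢
  rw [CurveVBLib.genRank_eq hE] at h'
  exact cl_eq_iff.2 (ExtPowLib.nonempty_iso h' hD)

theorem detM_line {L : X.Modules} (hL : PicF.IsInvertible L) : detM L = cl L :=
  detM_eq (rank_line hL) (LMLib.isExtPow_one L)

theorem exists_det {E : X.Modules} {r : ℕ} (hE : FlatMod.IsFinLocFreeOfRank r E) :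
    ∃ D : X.Modules, PicF.IsInvertible D ∧ ExtPow.IsExtPow r E D ∧ detM E = cl D := by
  obtain ⟨D, -, hD⟩ := ExtPowLib.exists_isExtPow_vb (VBResLib.vb_of_rank hE) r
  refine ⟨D, inv_line ?_, hD, detM_eq hE hD⟩
  have := GrassSch.rank_extPow hE hD
  rwa [Nat.choose_self] at this

/-- Rank and determinant. -/
theorem exists_rankDet : ∃ φ : SGA6.Kvb X →+ ℤ × Additive (IsoCls X)ˣ,
    ∀ (r : ℕ) (E : X.Modules), FlatMod.IsFinLocFreeOfRank r E →
      (φ (kc E)).1 = (r : ℤ) ∧ ((φ (kc E)).2.toMul : IsoCls X) = detM E := by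
  haveI := vb_iso (X := X)
  haveI : (KRR.vbP X).ContainsZero := AmpleNilLib.vbP_zero
  let v : X.Modules → ℤ × Additive (IsoCls X) := fun E => ((CurvLib.genRank E : ℤ), Additive.ofMul (detM E))
  -- the values lie in the group of units
  let w : X.Modules → ℤ × Additive (IsoCls X)ˣ := fun E =>
    haveI := Classical.dec (IsUnit (detM E))
    ((CurvLib.genRank E : ℤ), if h : IsUnit (detM E) then Additive.ofMul h.unit else 0)
  have hw : ∀ {E : X.Modules}, FlatMod.IsFinLocFree E → IsUnit (detM E) := fun {E} hE => by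
    obtain ⟨r, hr⟩ := VBResLib.exists_rank hE
    obtain ⟨D, hD, -, e⟩ := exists_det hr
    obtain ⟨d, hd⟩ := CubeConsLib.exists_inverse hD
    exact e ▸ IsUnit.of_mul_eq_one d hd
  obtain ⟨ψ, hψ⟩ := exists_lift_sub (KRR.vbP X) w fun S hS h₁ h₂ h₃ => by
    obtain ⟨a, ha⟩ := VBResLib.exists_rank h₁
    obtain ⟨c, hc⟩ := VBResLib.exists_rank h₃
    have hm := RegConLib.rank_mid S hS ha hc
    obtain ⟨DA, -, hDA, eA⟩ := exists_det ha
    obtain ⟨DB, -, hDB, eB⟩ := exists_det hm
    obtain ⟨DC, -, hDC, eC⟩ := exists_det hc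
    have e : detM S.X₂ = detM S.X₁ * detM S.X₃ := by
      rw [eA, eB, eC, mul_comm, ← cl_tensor]
      exact cl_eq_iff.2 (RegConLib.nonempty_det_ses S hS ha hc hDA hDB hDC)
    refine Prod.ext ?_ ?_
    · simp [w, CurveVBLib.genRank_eq ha, CurveVBLib.genRank_eq hm, CurveVBLib.genRank_eq hc]
    · simp only [w, Prod.snd_add, dif_pos (hw h₁), dif_pos (hw h₂), dif_pos (hw h₃), ← ofMul_mul]
      exact congrArg Additive.ofMul (Units.ext e)
  refine ⟨ψ, fun r E hE => ?_⟩
  have hv := VBResLib.vb_of_rank hE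
  rw [show ψ (kc E) = _ from hψ E hv]
  simp [w, CurveVBLib.genRank_eq hE, dif_pos (hw hv)]

theorem detM_structure : detM (Coh.structureModule X) = 1 := by
  rw [detM_line CurvLib.isInvertible_structureModule]
  exact cl_eq_one_iff.2 ⟨Iso.refl _⟩

include k hdim in
/-- A nonzero bundle contains a line bundle. -/
theorem exists_line_hom {H : X.Modules} (hH : CohB1.IsAmple H) {r : ℕ} {E : X.Modules}
    (hE : FlatMod.IsFinLocFreeOfRank (r + 1) E) :
    ∃ (L : X.Modules) (i : L ⟶ E), PicF.IsInvertible L ∧ i ≠ 0 := by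
  haveI := CurvLib.isNoetherian k (X := X)
  have hc := CurvLib.isCoh_of_locFree hE
  haveI := hc.1
  choose n s hxs hsa using hH.2.2
  have hinv : ∀ x, PicF.IsInvertible (CohB1.tensorPow H (n x + 1)) := fun x =>
    AmpleThLib.tensorPow_isInvertible hH.1 (n x + 1)
  obtain ⟨m, x, N, π, -, hπ⟩ := AmpleAffLib.exists_epi_biproduct hinv _
    (fun x => (AmpleThLib.genLocus_hom (hinv x) (s x)) ▸ hxs x)
    (fun x => (AmpleThLib.genLocus_hom (hinv x) (s x)) ▸ hsa x) E hc.2
  by_contra hne
  push_neg at hne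
  have h0 : π = 0 := biproduct.hom_ext' _ _ fun a => by
    rw [comp_zero]
    exact hne _ _ (MiscFlat6.dual_isInvertible (AmpleThLib.tensorPow_isInvertible (hinv _) _))
  haveI := hπ
  have hz : IsZero E := (IsZero.iff_id_eq_zero E).2 (by rw [← cancel_epi π, h0, zero_comp, zero_comp])
  have := CurveVBLib.genRank_of_isZero hz
  rw [CurveVBLib.genRank_eq hE] at this
  omega

include k hdim in
/-- Every bundle is a trivial bundle plus its determinant. -/
theorem kc_eq {H : X.Modules} (hH : CohB1.IsAmple H) : ∀ (r : ℕ) (E : X.Modules),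
    FlatMod.IsFinLocFreeOfRank r E → ∃ D : X.Modules, PicF.IsInvertible D ∧ detM E = cl D ∧
      kc E = ((r : ℤ) - 1) • kc (Coh.structureModule X) + kc D := by
  intro r
  induction r with
  | zero =>
    intro E hE
    refine ⟨Coh.structureModule X, CurvLib.isInvertible_structureModule, ?_, ?_⟩
    · exact detM_eq hE (HodgePnLib.isExtPow_zero E)
    · haveI := vb_iso (X := X)
      haveI := CurvLib.isNoetherian k (X := X)
      have hz : IsZero E := CurveVBLib.isZero_of_genRank_zero hE (𝟙 E) hE
      rw [show kc E = 0 from clSub_eq_zero (KRR.vbP X) (VBResLib.vb_of_rank hE) hz]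
      simp
  | succ r ih =>
    intro E hE
    obtain ⟨L₀, i, hL₀, hi⟩ := exists_line_hom (k := k) hdim hH hE
    haveI := CurveVBLib.mono_of_line (k := k) hdim (rank_line hL₀) hE hi
    obtain ⟨Q, p, hp, hQ, hr, -⟩ := CurveVBLib.exists_saturation (k := k) hdim hE i
      (CurvLib.isCoh_of_locFree (rank_line hL₀))
    rw [CurveVBLib.genRank_eq (rank_line hL₀)] at hr
    rw [show CurvLib.genRank Q = r by omega] at hQ
    let S : ShortComplex X.Modules := ShortComplex.mk (kernel.ι p) p (kernel.condition p)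
    have hS : S.ShortExact := { exact := ShortComplex.exact_kernel p }
    have hKv := AmpleNilLib.vb_kernel (VBResLib.vb_of_rank hE) (VBResLib.vb_of_rank hQ) p
    obtain ⟨a, ha⟩ := VBResLib.exists_rank hKv
    have ha1 : a = 1 := by
      have := rank_unique (RegConLib.rank_mid S hS ha hQ) hE
      omega
    subst ha1
    obtain ⟨D, hD, hDe, hDc⟩ := ih Q hQ
    obtain ⟨DE, -, hDE, eE⟩ := exists_det hE
    obtain ⟨DQ, -, hDQ, eQ⟩ := exists_det hQ
    obtain ⟨DK, -, hDK, eK⟩ := exists_det ha
    refine ⟨CohB1.tensorMod (kernel p) D, inv_tens (inv_line ha) hD, ?_, ?_⟩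
    · have hDE' : ExtPow.IsExtPow (1 + r) E DE := by rwa [add_comm]
      rw [cl_tensor, ← hDe, ← detM_line (inv_line ha), eE, eQ, eK, mul_comm, ← cl_tensor]
      exact cl_eq_iff.2 (RegConLib.nonempty_det_ses S hS ha hQ hDK hDE' hDQ)
    · have h := kc_seq hS hKv (VBResLib.vb_of_rank hE) (VBResLib.vb_of_rank hQ)
      change kc E = _ at h
      have h2 := add_line (k := k) hdim hH (inv_line ha) hD
      rw [h, hDc, show ((((r + 1 : ℕ)) : ℤ) - 1) = ((r : ℤ) - 1) + 1 by push_cast; ring, add_zsmul, one_zsmul]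
      change kc (kernel p) + _ = _
      linear_combination (norm := abel) -h2

include k hdim in
/-- **`K` of a curve is rank and determinant.** -/
theorem classification :
    (∀ a : SGA6.Kvb X, ∃ (n : ℤ) (L : X.Modules), PicF.IsInvertible L ∧
        a = (n - 1) • kc (Coh.structureModule X) + kc L) ∧
      (∀ (n m : ℤ) (L L' : X.Modules), PicF.IsInvertible L → PicF.IsInvertible L' →
        (n - 1) • kc (Coh.structureModule X) + kc L = (m - 1) • kc (Coh.structureModule X) + kc L' →
        n = m ∧ Nonempty (L ≅ L')) := by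
  haveI := CurvLib.isNoetherian k (X := X)
  haveI : X.IsSeparated := ⟨by rw [← terminal.comp_from (X ↘ Spec (CommRingCat.of k))]; infer_instance⟩
  haveI := vb_iso (X := X)
  haveI : (KRR.vbP X).ContainsZero := AmpleNilLib.vbP_zero
  obtain ⟨H, hH⟩ := CurveAmpLib.exists_ample (X := X) hdim.le
  constructor
  · intro a
    let G : AddSubgroup (SGA6.Kvb X) :=
      { carrier := {a | ∃ (n : ℤ) (L : X.Modules), PicF.IsInvertible L ∧ a = (n - 1) • kc (Coh.structureModule X) + kc L}
        zero_mem' := ⟨0, _, CurvLib.isInvertible_structureModule, by simp⟩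
        add_mem' := by
          rintro _ _ ⟨n, L, hL, rfl⟩ ⟨m, M, hM, rfl⟩
          refine ⟨n + m, _, inv_tens hL hM, ?_⟩
          have h := add_line (k := k) hdim hH hL hM
          rw [show n + m - 1 = (n - 1) + (m - 1) + 1 by ring, add_zsmul, add_zsmul, one_zsmul]
          linear_combination (norm := abel) -h
        neg_mem' := by
          rintro _ ⟨n, L, hL, rfl⟩
          obtain ⟨M, hM, e⟩ : ∃ M : X.Modules, PicF.IsInvertible M ∧ Nonempty (CohB1.tensorMod L M ≅ Coh.structureModule X) :=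
            ⟨_, MiscFlat6.dual_isInvertible hL, MiscFlat6.nonempty_dualIso hL⟩
          refine ⟨-n, M, hM, ?_⟩
          have h := add_line (k := k) hdim hH hL hM
          rw [kc_congr e.some] at h
          rw [show -n - 1 = -(n - 1) + -1 + -1 by ring, add_zsmul, add_zsmul, neg_zsmul, neg_zsmul, one_zsmul]
          linear_combination (norm := abel) h }
    exact (ProjKLib.eq_top_of_cl (H := G) fun E hE => by
      obtain ⟨r, hr⟩ := VBResLib.exists_rank hE
      obtain ⟨D, hD, -, e⟩ := kc_eq (k := k) hdim hH r E hr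
      exact ⟨r, D, hD, e⟩).ge (AddSubgroup.mem_top a)
  · intro n m L L' hL hL' h
    obtain ⟨φ, hφ⟩ := exists_rankDet (X := X)
    obtain ⟨hO1, hO2⟩ := hφ 1 _ (rank_line CurvLib.isInvertible_structureModule)
    rw [detM_structure, Units.val_eq_one] at hO2
    obtain ⟨hL1, hL2⟩ := hφ 1 L (rank_line hL)
    obtain ⟨hM1, hM2⟩ := hφ 1 L' (rank_line hL')
    rw [detM_line hL] at hL2
    rw [detM_line hL'] at hM2
    have hO3 : (φ (kc (Coh.structureModule X))).2 = 0 := hO2
    have h' := congrArg φ h
    rw [map_add, map_add, map_zsmul φ (n - 1), map_zsmul φ (m - 1)] at h'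
    have h1 := congrArg Prod.fst h'
    have h2 := congrArg Prod.snd h'
    simp only [Prod.fst_add, Prod.smul_fst, hO1, hL1, hM1, smul_eq_mul] at h1
    simp only [Prod.snd_add, Prod.smul_snd, hO3, smul_zero, zero_add] at h2
    refine ⟨by push_cast at h1; omega, cl_eq_iff.1 ?_⟩
    rw [← hL2, ← hM2, h2]

end KCurveLib

end
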